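import Mathlib

set_option autoImplicit false

/-!
Inequalities between geometric sums.
-/

namespace Cfsg.Agent.AutPSL.MaxOrder

theorem mul_le_pow_pred (m : ℕ) (hm : 2 ≤ m) : 2 * m ≤ 2 ^ (2 * (m - 1)) := by
  induction m, hm using Nat.le_induction with
  | base => norm_num
  | succ m hm ih =>
    rw [show 2 * (m + 1 - 1) = 2 * (m - 1) + 2 by omega, pow_add]
    omega

theorem step_le {k m n c : ℕ} (hk : 2 ≤ k) (hm : 2 ≤ m) (hn : 2 ≤ n) (hc : c ≤ 2) :
    c * m * k ^ n ≤ (k ^ m) ^ n := by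
  rw [← pow_mul, show m * n = (m - 1) * n + n by
    obtain ⟨m, rfl⟩ : ∃ j, m = j + 1 := ⟨m - 1, by omega⟩
    rw [Nat.add_sub_cancel]; ring, pow_add]
  refine Nat.mul_le_mul_right _ (le_trans (Nat.mul_le_mul_right m hc) ?_)
  calc 2 * m ≤ 2 ^ (2 * (m - 1)) := mul_le_pow_pred m hm
    _ ≤ 2 ^ ((m - 1) * n) := Nat.pow_le_pow_right (by norm_num) (by rw [mul_comm 2]; exact Nat.mul_le_mul_left _ hn)
    _ ≤ k ^ ((m - 1) * n) := Nat.pow_le_pow_left hk _

theorem extend_le {k m c n₀ n : ℕ} (hk : 2 ≤ k) (hm : 2 ≤ m) (hn₀ : 2 ≤ n₀) (hc : c ≤ 2) (hn : n₀ ≤ n)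
    (hbase : c * m * ∑ i ∈ Finset.range n₀, k ^ i ≤ ∑ i ∈ Finset.range n₀, (k ^ m) ^ i) :
    c * m * ∑ i ∈ Finset.range n, k ^ i ≤ ∑ i ∈ Finset.range n, (k ^ m) ^ i := by
  induction n, hn using Nat.le_induction with
  | base => exact hbase
  | succ n hn ih =>
    rw [Finset.sum_range_succ, Finset.sum_range_succ, mul_add]
    exact Nat.add_le_add ih (step_le hk hm (hn₀.trans hn) hc)

theorem base_two {k m : ℕ} (hk : 2 ≤ k) (hm : 2 ≤ m) (h : ¬ (k = 2 ∧ m = 2)) : m * (1 + k) ≤ 1 + k ^ m := by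
  induction m, hm using Nat.le_induction with
  | base =>
    have : 3 ≤ k := by
      rcases Nat.lt_or_ge k 3 with h3 | h3
      · exact absurd ⟨by omega, rfl⟩ h
      · exact h3
    nlinarith
  | succ m hm ih =>
    have hk' : k ^ 2 ≤ k ^ m := Nat.pow_le_pow_right (by omega) hm
    rw [pow_succ]
    by_cases hc : k = 2 ∧ m = 2
    · obtain ⟨rfl, rfl⟩ := hc; norm_num
    · have := ih hc
      nlinarith

theorem base_three {k m : ℕ} (hk : 2 ≤ k) (hm : 2 ≤ m) (h : ¬ (k = 2 ∧ m = 2)) :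
    2 * m * (1 + k + k ^ 2) ≤ 1 + k ^ m + (k ^ m) ^ 2 := by
  have h1 := base_two hk hm h
  have hk' : k ^ 2 ≤ k ^ m := Nat.pow_le_pow_right (by omega) hm
  have h2 : 2 * m * k ^ 2 + 2 * m * (1 + k) ≤ (k ^ m) ^ 2 + (1 + k ^ m) := by
    rcases Nat.lt_or_ge m 3 with hm3 | hm3
    · obtain rfl : m = 2 := by omega
      have : 3 ≤ k := by
        rcases Nat.lt_or_ge k 3 with h3 | h3
        · exact absurd ⟨by omega, rfl⟩ h
        · exact h3
      nlinarith [Nat.mul_le_mul this this]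
    · have h3 : k ^ 3 ≤ k ^ m := Nat.pow_le_pow_right (by omega) hm3
      have h4 : m * k ^ 2 ≤ k ^ m * k ^ m := by
        calc m * k ^ 2 ≤ 2 ^ m * k ^ 2 := Nat.mul_le_mul_right _ Nat.lt_two_pow_self.le
          _ ≤ k ^ m * k ^ m := Nat.mul_le_mul (Nat.pow_le_pow_left hk m) hk'
      have h5 : 2 * (1 + k) ≤ 3 * k := by omega
      have h6 : 2 * m * k ^ 2 * 2 ≤ k ^ m * k ^ m := by
        calc 2 * m * k ^ 2 * 2 = (4 * m) * k ^ 2 := by ring
          _ ≤ 2 ^ (2 * m - 2) * k ^ 2 := by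
              refine Nat.mul_le_mul_right _ ?_
              clear h1 hk' h3 h4 h
              induction m, hm3 using Nat.le_induction with
              | base => norm_num
              | succ m hm3 ih =>
                have := ih (by omega)
                rw [show 2 * (m + 1) - 2 = (2 * m - 2) + 2 by omega, pow_add]
                omega
          _ ≤ k ^ (2 * m - 2) * k ^ 2 := Nat.mul_le_mul_right _ (Nat.pow_le_pow_left hk _)
          _ = k ^ m * k ^ m := by rw [← pow_add, ← pow_add]; congr 1; omega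
      rw [sq (k ^ m)]
      have h7 : 2 * m * (1 + k) ≤ 2 * m * k ^ 2 := by
        refine Nat.mul_le_mul_left _ ?_
        nlinarith
      omega
  calc 2 * m * (1 + k + k ^ 2) = 2 * m * k ^ 2 + 2 * m * (1 + k) := by ring
    _ ≤ _ := by omega

theorem geom_mul {x n : ℕ} (hx : 1 ≤ x) : (x - 1) * ∑ i ∈ Finset.range n, x ^ i = x ^ n - 1 := by
  obtain ⟨y, rfl⟩ : ∃ y, x = y + 1 := ⟨x - 1, by omega⟩
  have := geom_sum_mul_add y n
  rw [Nat.add_sub_cancel, mul_comm]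
  omega

/-- From a subfield bound to the bound over the whole field. -/
theorem lift_bound {k m n c o q : ℕ} (hk : 2 ≤ k) (hm : 2 ≤ m) (hn : 2 ≤ n) (hq : q = k ^ m)
    (hcase : (c = 1 ∧ ¬ (k = 2 ∧ m = 2 ∧ n = 2)) ∨ (c = 2 ∧ 3 ≤ n ∧ ¬ (k = 2 ∧ m = 2)))
    (ho : (k - 1) * o ≤ c * m * (k ^ n - 1)) : (q - 1) * o ≤ q ^ n - 1 := by
  have hsum : c * m * ∑ i ∈ Finset.range n, k ^ i ≤ ∑ i ∈ Finset.range n, (k ^ m) ^ i := by
    rcases hcase with ⟨rfl, h⟩ | ⟨rfl, h3, h⟩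
    · by_cases hkm : k = 2 ∧ m = 2
      · obtain ⟨rfl, rfl⟩ := hkm
        refine extend_le (n₀ := 3) (by norm_num) (by norm_num) (by norm_num) (by norm_num) ?_ (by decide)
        rcases Nat.lt_or_ge n 3 with h' | h'
        · exact absurd ⟨rfl, rfl, by omega⟩ h
        · exact h'
      · refine extend_le (n₀ := 2) hk hm le_rfl (by norm_num) hn ?_
        have := base_two hk hm hkm
        simpa [Finset.sum_range_succ] using this
    · refine extend_le (n₀ := 3) hk hm (by norm_num) le_rfl h3 ?_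
      have := base_three hk hm h
      simpa [Finset.sum_range_succ] using this
  have hkp : 1 ≤ k ^ m := Nat.one_le_pow _ _ (by omega)
  subst hq
  have h1 : (k - 1) * o ≤ (k - 1) * (c * m * ∑ i ∈ Finset.range n, k ^ i) := by
    rw [mul_left_comm (k - 1), geom_mul (by omega)]
    exact ho
  calc (k ^ m - 1) * o ≤ (k ^ m - 1) * (c * m * ∑ i ∈ Finset.range n, k ^ i) :=
        Nat.mul_le_mul_left _ (Nat.le_of_mul_le_mul_left h1 (by omega))
    _ ≤ (k ^ m - 1) * ∑ i ∈ Finset.range n, (k ^ m) ^ i := Nat.mul_le_mul_left _ hsum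
    _ = (k ^ m) ^ n - 1 := geom_mul hkp

theorem final_odd {q n : ℕ} (hq : 3 ≤ q) (hn : 3 ≤ n) : (q - 1) * (4 * q ^ (n / 2)) ≤ q ^ n - 1 := by
  refine Nat.le_sub_one_of_lt ?_
  obtain ⟨s, rfl⟩ : ∃ s, q = s + 3 := ⟨q - 3, by omega⟩
  rw [show s + 3 - 1 = s + 2 by omega]
  rcases Nat.lt_or_ge n 5 with h | h
  · interval_cases n
    · norm_num; ring_nf; nlinarith [pow_nonneg (Nat.zero_le s) 3]
    · norm_num; ring_nf; nlinarith [pow_nonneg (Nat.zero_le s) 3, pow_nonneg (Nat.zero_le s) 4]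
  · calc (s + 2) * (4 * (s + 3) ^ (n / 2)) = 4 * (s + 2) * (s + 3) ^ (n / 2) := by ring
      _ < (s + 3) ^ 3 * (s + 3) ^ (n / 2) := by
          refine Nat.mul_lt_mul_of_pos_right ?_ (pow_pos (by omega) _)
          ring_nf
          nlinarith [pow_nonneg (Nat.zero_le s) 3]
      _ ≤ _ := by rw [← pow_add]; exact Nat.pow_le_pow_right (by omega) (by omega)

theorem final_two {q n : ℕ} (hq : 4 ≤ q) (hn : 3 ≤ n) : 2 * q ^ (n / 2 + 1) ≤ q ^ n - 1 := by
  refine Nat.le_sub_one_of_lt ?_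
  calc 2 * q ^ (n / 2 + 1) < q * q ^ (n / 2 + 1) := Nat.mul_lt_mul_of_pos_right (by omega) (pow_pos (by omega) _)
    _ ≤ q ^ n := by rw [← pow_succ']; exact Nat.pow_le_pow_right (by omega) (by omega)

theorem final_unitary {r n : ℕ} (hr : 2 ≤ r) (hn : 3 ≤ n) (h : ¬ (r = 2 ∧ n = 3)) :
    2 * r ^ (n + 1) * (r + 1) ≤ (r ^ 2) ^ n - 1 := by
  refine Nat.le_sub_one_of_lt ?_
  have e : 2 * n = (n + 1) + (n - 1) := by
    obtain ⟨j, rfl⟩ : ∃ j, n = j + 1 := ⟨n - 1, by omega⟩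
    rw [Nat.add_sub_cancel]; ring
  rw [← pow_mul, e, pow_add r (n + 1) (n - 1), mul_comm 2, mul_assoc]
  refine Nat.mul_lt_mul_of_pos_left ?_ (pow_pos (show 0 < r by omega) _)
  rcases Nat.lt_or_ge n 4 with h4 | h4
  · obtain rfl : n = 3 := by omega
    have : 3 ≤ r := by
      rcases Nat.lt_or_ge r 3 with h3 | h3
      · exact absurd ⟨by omega, rfl⟩ h
      · exact h3
    norm_num
    nlinarith
  · calc 2 * (r + 1) < r ^ 3 := by nlinarith [Nat.mul_le_mul hr hr]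
      _ ≤ _ := Nat.pow_le_pow_right (by omega) (by omega)

end Cfsg.Agent.AutPSL.MaxOrder
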