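import Cfsg.Agent.Lib.AutPSL.MaxOrder.RootsBound
import Mathlib

set_option autoImplicit false
set_option linter.all false

/-!
Matrices whose characteristic polynomial is inversion invariant.
-/

namespace Cfsg.Agent.AutPSL.MaxOrder

open Matrix Polynomial
open scoped Classical

variable {n : ℕ} {F : Type*} [Field F] [Fintype F]

local notation "Mat" => Matrix (Fin n) (Fin n) F
local notation "q" => Fintype.card F

theorem two_mul_le_two_pow (k : ℕ) : 2 * k ≤ 2 ^ k := by
  induction k with
  | zero => simp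
  | succ k ih => rw [pow_succ]; have : 1 ≤ 2 ^ k := Nat.one_le_two_pow; omega

theorem two_mul_add_one_le (p : ℕ) (hp : 3 ≤ p) (k : ℕ) : 2 * k + 1 ≤ p ^ k := by
  induction k with
  | zero => simp
  | succ k ih => rw [pow_succ]; nlinarith

/-- Orbit data in the orthogonal or symplectic case. -/
theorem real_data (p : ℕ) [hp : Fact p.Prime] [CharP F p] (A : GL (Fin n) F)
    (h : ((A⁻¹ : GL (Fin n) F) : Mat).charpoly = (A : Mat).charpoly) :
    ∃ orb : AlgebraicClosure F → Finset (AlgebraicClosure F),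
      ∀ x ∈ (eig (A : Mat)).toFinset.filter (fun x => x ≠ 1 ∧ x ≠ -1),
      x ∈ orb x ∧ orb x ⊆ (eig (A : Mat)).toFinset.filter (fun x => x ≠ 1 ∧ x ≠ -1) ∧
      (∀ y ∈ orb x, orb y = orb x ∧ (eig (A : Mat)).count y = (eig (A : Mat)).count x ∧
        ∀ L : ℕ, x ^ L = 1 → y ^ L = 1) ∧
      ∃ (d : ℕ) (b : Bool), 1 ≤ d ∧ 2 * d ≤ (orb x).card ∧ x ^ (if b then q ^ d + 1 else q ^ d - 1) = 1 := by
  haveI hE : CharP (AlgebraicClosure F) p :=
    charP_of_injective_algebraMap (algebraMap F (AlgebraicClosure F)).injective p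
  haveI : ExpChar (AlgebraicClosure F) p := ExpChar.prime hp.out
  obtain ⟨⟨f, hf⟩, -, hcard⟩ := FiniteField.card F p
  change q = p ^ f at hcard
  set φ := iterateFrobenius (AlgebraicClosure F) p f
  have hφ : ∀ x, φ x = x ^ q := fun x => by rw [hcard]; exact iterateFrobenius_def p f x
  set M := eig (A : Mat) with hMd
  have hfrob : M.map φ = M := by
    rw [hMd, eig]
    conv_rhs => rw [show (A : Mat).charpoly.map (algebraMap F (AlgebraicClosure F)) =
        ((A : Mat).charpoly.map (algebraMap F (AlgebraicClosure F))).map φ by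
      rw [Polynomial.map_map]
      congr 1
      refine RingHom.ext fun x => ?_
      rw [RingHom.comp_apply, hφ, ← map_pow, FiniteField.pow_card]]
    exact roots_map_of_injective_of_card_eq_natDegree φ.injective
      (IsAlgClosed.splits _).natDegree_eq_card_roots.symm
  have hinv : M.map (·⁻¹) = M := by
    rw [hMd, ← eig_inv, eig, eig, h]
  have cinv : ∀ x, M.count x⁻¹ = M.count x := fun x => by
    conv_lhs => rw [← hinv]
    exact Multiset.count_map_eq_count' _ _ inv_injective x
  have cfrob : ∀ x (i : ℕ), M.count (φ^[i] x) = M.count x := fun x i => by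
    induction i with
    | zero => rfl
    | succ i ih =>
      rw [Function.iterate_succ_apply', ← ih]
      conv_lhs => rw [← hfrob]
      exact Multiset.count_map_eq_count' _ _ φ.injective _
  have hit : ∀ x i, φ^[i] x = x ^ q ^ i := fun x i => by
    induction i with
    | zero => simp
    | succ i ih => rw [Function.iterate_succ_apply', ih, hφ, ← pow_mul, ← pow_succ]
  set R := M.toFinset.filter (fun x => x ≠ 1 ∧ x ≠ -1)
  have hR : ∀ x, x ∈ R ↔ x ∈ M ∧ x ≠ 1 ∧ x ≠ -1 := fun x => by simp [R]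
  have Rfrob : ∀ x ∈ R, ∀ i, φ^[i] x ∈ R := fun x hx i => by
    obtain ⟨h1, h2, h3⟩ := (hR x).1 hx
    refine (hR _).2 ⟨Multiset.count_pos.1 (by rw [cfrob]; exact Multiset.count_pos.2 h1), ?_, ?_⟩
    · intro e; refine h2 (φ.injective.iterate i (e.trans (Function.iterate_fixed (map_one φ) i).symm))
    · intro e
      exact h3 (φ.injective.iterate i (e.trans (Function.iterate_fixed (by rw [map_neg, map_one]) i).symm))
  have Rinv : ∀ x ∈ R, x⁻¹ ∈ R := fun x hx => by
    obtain ⟨h1, h2, h3⟩ := (hR x).1 hx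
    exact (hR _).2 ⟨Multiset.count_pos.1 (by rw [cinv]; exact Multiset.count_pos.2 h1),
      fun e => h2 (inv_eq_one.1 e), fun e => h3 (by rw [← inv_inv x, e, inv_neg, inv_one])⟩
  have hper : ∀ x ∈ R, x ∈ Function.periodicPts φ := fun x hx => by
    obtain ⟨i, k, hne, e⟩ := Finite.exists_ne_map_eq_of_infinite fun i : ℕ => (⟨φ^[i] x, Rfrob x hx i⟩ : R)
    have e' : φ^[i] x = φ^[k] x := congrArg Subtype.val e
    wlog hik : i < k generalizing i k
    · exact this k i hne.symm e.symm e'.symm (by omega)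
    refine Function.mk_mem_periodicPts (show 0 < k - i by omega) ?_
    refine φ.injective.iterate i ?_
    rw [← Function.iterate_add_apply, Nat.add_sub_cancel' hik.le, e']
  refine ⟨fun x => R.filter fun y => ∃ i, y = φ^[i] x ∨ y = (φ^[i] x)⁻¹, fun x hx => ⟨?_, Finset.filter_subset _ _, ?_, ?_⟩⟩
  · exact Finset.mem_filter.2 ⟨hx, 0, Or.inl rfl⟩
  · intro y hy
    obtain ⟨-, i, hi⟩ := Finset.mem_filter.1 hy
    refine ⟨Finset.filter_congr fun z _ => ⟨?_, ?_⟩, ?_, fun L hL => ?_⟩
    · rintro ⟨k, hk⟩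
      refine ⟨k + i, ?_⟩
      rw [Function.iterate_add_apply]
      have einv : ∀ w, φ^[k] w⁻¹ = (φ^[k] w)⁻¹ := fun w => by rw [hit, hit, _root_.inv_pow]
      rcases hi with rfl | rfl <;> rcases hk with rfl | rfl
      · exact Or.inl rfl
      · exact Or.inr rfl
      · exact Or.inr (einv _)
      · exact Or.inl (by rw [einv, inv_inv])
    · rintro ⟨k, hk⟩
      set s := Function.minimalPeriod φ x
      have hs : 0 < s := Function.minimalPeriod_pos_of_mem_periodicPts (hper x hx)
      have hle : i ≤ s * i + k := (Nat.le_mul_of_pos_left i hs).trans (Nat.le_add_right _ _)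
      refine ⟨s * i + k - i, ?_⟩
      have e : φ^[s * i + k - i] (φ^[i] x) = φ^[k] x := by
        rw [← Function.iterate_add_apply, Nat.sub_add_cancel hle, add_comm, Function.iterate_add_apply]
        congr 1
        exact ((Function.isPeriodicPt_minimalPeriod φ x).mul_const i).eq
      rcases hi with rfl | rfl
      · rw [e]; exact hk
      · rw [show φ^[s * i + k - i] (φ^[i] x)⁻¹ = (φ^[k] x)⁻¹ by rw [hit, _root_.inv_pow, ← hit, e], inv_inv]
        exact hk.symm
    · rcases hi with rfl | rfl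
      · exact cfrob x i
      · rw [cinv, cfrob]
    · rcases hi with rfl | rfl
      · rw [hit, ← pow_mul, mul_comm, pow_mul, hL, one_pow]
      · rw [hit, _root_.inv_pow, ← pow_mul, mul_comm, pow_mul, hL, one_pow, inv_one]
  · set s := Function.minimalPeriod φ x
    have hs : 0 < s := Function.minimalPeriod_pos_of_mem_periodicPts (hper x hx)
    obtain ⟨hxM, hx1, hx2⟩ := (hR x).1 hx
    have hx0 : x ≠ 0 := fun e => zero_notMem_eig A (e ▸ hxM)
    have hinj : ∀ a < s, ∀ b < s, φ^[a] x = φ^[b] x → a = b := fun a ha b hb e =>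
      Function.iterate_injOn_Iio_minimalPeriod ha hb e
    have hfix : x ^ q ^ s = x := by rw [← hit]; exact Function.iterate_minimalPeriod
    have hmem1 : ∀ i, φ^[i] x ∈ R.filter fun y => ∃ i, y = φ^[i] x ∨ y = (φ^[i] x)⁻¹ := fun i =>
      Finset.mem_filter.2 ⟨Rfrob x hx i, i, Or.inl rfl⟩
    by_cases hex : ∃ i < s, φ^[i] x = x⁻¹
    · obtain ⟨i, hi, hie⟩ := hex
      have hi0 : i ≠ 0 := by
        rintro rfl
        have hxx : x * x = 1 := by
          have : x = x⁻¹ := hie
          conv_lhs => arg 2; rw [this]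
          exact mul_inv_cancel₀ hx0
        rcases mul_self_eq_one_iff.1 hxx with e | e
        · exact hx1 e
        · exact hx2 e
      have h2i : φ^[i + i] x = x := by
        rw [Function.iterate_add_apply, hie, hit, _root_.inv_pow, ← hit, hie, inv_inv]
      have hdiv : s ∣ i + i := (Function.IsPeriodicPt.minimalPeriod_dvd (show Function.IsPeriodicPt φ (i + i) x from h2i))
      obtain ⟨k, hk⟩ := hdiv
      have hk1 : k = 1 := by
        rcases Nat.lt_or_ge k 2 with h | h
        · rcases Nat.eq_zero_or_pos k with rfl | h0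
          · omega
          · omega
        · have := Nat.mul_le_mul_left s h; omega
      rw [hk1, mul_one] at hk
      refine ⟨i, true, Nat.pos_of_ne_zero hi0, ?_, ?_⟩
      · rw [show 2 * i = (Finset.range s).card by rw [Finset.card_range]; omega]
        refine Finset.card_le_card_of_injOn (fun a => φ^[a] x) (fun a _ => hmem1 a) ?_
        intro a ha b hb e
        exact hinj a (Finset.mem_range.1 ha) b (Finset.mem_range.1 hb) e
      · rw [if_pos rfl, pow_succ, ← hit, hie, inv_mul_cancel₀ hx0]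
    · push Not at hex
      refine ⟨s, false, hs, ?_, ?_⟩
      · rw [show 2 * s = ((Finset.range s).disjSum (Finset.range s)).card by
          rw [Finset.card_disjSum, Finset.card_range]; omega]
        refine Finset.card_le_card_of_injOn (Sum.elim (fun a => φ^[a] x) (fun a => (φ^[a] x)⁻¹)) ?_ ?_
        · rintro (a | a) -
          · exact hmem1 a
          · exact Finset.mem_filter.2 ⟨Rinv _ (Rfrob x hx a), a, Or.inr rfl⟩
        · have key : ∀ a < s, ∀ b < s, φ^[a] x ≠ (φ^[b] x)⁻¹ := by
            intro a ha b hb e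
            -- move `b` to the origin
            have e' := congrArg (φ^[s - b]) e
            rw [← Function.iterate_add_apply, hit _ (s - b), _root_.inv_pow, ← hit, ← Function.iterate_add_apply,
              Nat.sub_add_cancel hb.le, show φ^[s] x = x from Function.iterate_minimalPeriod] at e'
            rw [← Function.iterate_mod_minimalPeriod_eq] at e'
            exact hex _ (Nat.mod_lt _ hs) e'
          rintro (a | a) ha (b | b) hb e <;>
            simp only [Finset.mem_coe, Finset.inl_mem_disjSum, Finset.inr_mem_disjSum, Finset.mem_range] at ha hb <;>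
            simp only [Sum.elim_inl, Sum.elim_inr] at e
          · exact congrArg _ (hinj a ha b hb e)
          · exact absurd e (key a ha b hb)
          · exact absurd e.symm (key b hb a ha)
          · exact congrArg _ (hinj a ha b hb (inv_injective e))
      · rw [if_neg (by simp)]
        refine mul_right_cancel₀ hx0 ?_
        rw [one_mul, ← pow_succ, Nat.sub_add_cancel (Nat.one_le_pow _ _ Fintype.card_pos), hfix]

/-- The numerical data used by the order bounds. -/
theorem real_core (p : ℕ) [hp : Fact p.Prime] [CharP F p] (A : GL (Fin n) F)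
    (h : ((A⁻¹ : GL (Fin n) F) : Mat).charpoly = (A : Mat).charpoly) :
    ∃ L D, 0 < L ∧ (∀ x ∈ eig (A : Mat), x ^ L = 1) ∧ 2 * D ≤ n ∧
      (∀ x ∈ eig (A : Mat), (x ≠ 1 ∧ x ≠ -1 → 2 * (D + ((eig (A : Mat)).count x - 1)) ≤ n) ∧
        ((x = 1 ∨ x = -1) → (eig (A : Mat)).count x + 2 * D ≤ n)) ∧
      ((D = 0 ∧ L = (if p = 2 then 1 else 2) ∧ ∀ x ∈ eig (A : Mat), x = 1 ∨ x = -1) ∨
        (1 ≤ D ∧ (q - 1) * L ≤ q ^ (D + 1) ∧ (p = 2 → ¬ ∃ k, L = 2 ^ k))) := by
  haveI hE : CharP (AlgebraicClosure F) p :=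
    charP_of_injective_algebraMap (algebraMap F (AlgebraicClosure F)).injective p
  obtain ⟨orb, horb⟩ := real_data p A h
  set M := eig (A : Mat)
  set R := M.toFinset.filter (fun x => x ≠ 1 ∧ x ≠ -1) with hRd
  choose hself hsub hy d b hd1 hd2 hdx using horb
  let dd : AlgebraicClosure F → ℕ := fun x => if hx : x ∈ R then d x hx else 0
  let bb : AlgebraicClosure F → Bool := fun x => if hx : x ∈ R then b x hx else false
  have hq2 : 2 ≤ q := Fintype.one_lt_card
  obtain ⟨L, D, hL, hroot, hle, hD0, hD, hne, heven⟩ := orbit_bound (Q := q) (c := 2) hq2 M R orb dd bb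
    (fun x hx => hsub x hx) (fun x hx => hself x hx) (fun x hx y hxy => (hy x hx y hxy).1)
    (fun x hx y hxy => (hy x hx y hxy).2.1) (fun x hx y hxy => (hy x hx y hxy).2.2)
    (fun x hx => by simp only [dd, dif_pos hx]; exact hd1 x hx)
    (fun x hx => by simp only [dd, dif_pos hx]; exact hd2 x hx)
    (fun x hx => by simp only [dd, bb, dif_pos hx]; exact hdx x hx)
    (fun x hx => Multiset.one_le_count_iff_mem.2 (Multiset.mem_toFinset.1 (Finset.mem_filter.1 hx).1))
  have hRle : ∑ x ∈ R, M.count x ≤ n := by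
    refine (Finset.sum_le_sum_of_subset (Finset.filter_subset _ _)).trans ?_
    rw [Multiset.toFinset_sum_count_eq, card_eig]
  have hRx : ∀ x ∈ M, (x = 1 ∨ x = -1) → ∑ y ∈ R, M.count y + M.count x ≤ n := fun x hx hx1 => by
    have hxR : x ∉ R := fun h => by
      obtain ⟨-, h1, h2⟩ := Finset.mem_filter.1 h
      rcases hx1 with e | e
      · exact h1 e
      · exact h2 e
    rw [add_comm, ← Finset.sum_insert (f := fun y => M.count y) hxR]
    refine (Finset.sum_le_sum_of_subset (Finset.insert_subset (Multiset.mem_toFinset.2 hx)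
      (Finset.filter_subset _ _))).trans ?_
    rw [Multiset.toFinset_sum_count_eq, card_eig]
  rcases R.eq_empty_or_nonempty with hR | hR
  · refine ⟨if p = 2 then 1 else 2, 0, by split_ifs <;> norm_num, fun x hx => ?_, by omega,
      fun x hx => ⟨fun h1 => ?_, fun _ => ?_⟩, Or.inl ⟨rfl, rfl, fun x hx => ?_⟩⟩
    · have : x = 1 ∨ x = -1 := by
        by_contra hc
        push Not at hc
        exact Finset.notMem_empty x (hR ▸ Finset.mem_filter.2 ⟨Multiset.mem_toFinset.2 hx, hc⟩)
      split_ifs with hp2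
      · rw [pow_one]
        rcases this with e | e
        · exact e
        · haveI : CharP (AlgebraicClosure F) 2 := by rw [← hp2]; exact hE
          rw [e, CharTwo.neg_eq]
      · rcases this with rfl | rfl
        · exact one_pow _
        · exact neg_one_sq
    · exact absurd (Finset.mem_filter.2 ⟨Multiset.mem_toFinset.2 hx, h1⟩) (by rw [← hRd, hR]; exact Finset.notMem_empty x)
    · have := (Multiset.count_le_card x M).trans (card_eig _).le; omega
    · by_contra hc
      push Not at hc
      exact Finset.notMem_empty x (hR ▸ Finset.mem_filter.2 ⟨Multiset.mem_toFinset.2 hx, hc⟩)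
  · refine ⟨L, D, hL, fun x hx => ?_, hD0.trans hRle, fun x hx => ⟨fun h1 => (hD x
      (Finset.mem_filter.2 ⟨Multiset.mem_toFinset.2 hx, h1⟩)).trans hRle, fun h1 => ?_⟩, Or.inr ⟨hne hR, hle, ?_⟩⟩
    · by_cases h1 : x ≠ 1 ∧ x ≠ -1
      · exact hroot x (Finset.mem_filter.2 ⟨Multiset.mem_toFinset.2 hx, h1⟩)
      · rcases em (x = 1) with e | e
        · rw [e, one_pow]
        · have e2 : x = -1 := by by_contra e2; exact h1 ⟨e, e2⟩
          rw [e2]
          by_cases hp2 : p = 2
          · haveI : CharP (AlgebraicClosure F) 2 := by rw [← hp2]; exact hE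
            rw [CharTwo.neg_eq, one_pow]
          · obtain ⟨⟨f, hf⟩, -, hcard⟩ := FiniteField.card F p
            exact (heven hR (by rw [hcard]; exact (hp.out.odd_of_ne_two hp2).pow)).neg_one_pow
    · have := hRx x hx h1; omega
    · rintro hp2 ⟨k, hk⟩
      obtain ⟨y, hy⟩ := hR
      haveI : CharP (AlgebraicClosure F) 2 := by rw [← hp2]; exact hE
      refine (Finset.mem_filter.1 hy).2.1 ((iterateFrobenius (AlgebraicClosure F) 2 k).injective ?_)
      rw [map_one, iterateFrobenius_def, ← hk, hroot y hy]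

/-- Odd characteristic. -/
theorem real_bound_odd (p : ℕ) [hp : Fact p.Prime] [CharP F p] (hp2 : p ≠ 2) (A : GL (Fin n) F)
    (h : ((A⁻¹ : GL (Fin n) F) : Mat).charpoly = (A : Mat).charpoly) :
    orderOf A ≤ 2 * q ^ (n / 2) := by
  obtain ⟨L, D, hL, hroot, hDn, hcnt, hcase⟩ := real_core p A h
  have hp3 : 3 ≤ p := by have := hp.out.two_le; omega
  obtain ⟨⟨f, hf⟩, -, hcard⟩ := FiniteField.card F p
  change q = p ^ f at hcard
  have hpq : p ≤ q := hcard ▸ Nat.le_self_pow (by omega) p
  set K := n / 2 - D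
  have hmult : ∀ x ∈ eig (A : Mat), (eig (A : Mat)).count x ≤ p ^ K := fun x hx => by
    have hK := two_mul_add_one_le p hp3 K
    by_cases h1 : x ≠ 1 ∧ x ≠ -1
    · have := (hcnt x hx).1 h1; omega
    · have h2 : x = 1 ∨ x = -1 := by tauto
      have := (hcnt x hx).2 h2; omega
  refine le_trans (orderOf_le_of_roots p A hL hroot hmult) ?_
  rcases hcase with ⟨rfl, rfl, -⟩ | ⟨hD1, hle, -⟩
  · rw [if_neg hp2]
    exact Nat.mul_le_mul_left 2 (Nat.pow_le_pow_left hpq _)
  · have h1 : L * (q - 1) ≤ 2 * q ^ D * (q - 1) := by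
      rw [mul_comm L]
      refine hle.trans ?_
      rw [pow_succ, mul_comm 2, mul_assoc]
      exact Nat.mul_le_mul_left _ (by omega)
    calc L * p ^ K ≤ 2 * q ^ D * q ^ K :=
          Nat.mul_le_mul (Nat.le_of_mul_le_mul_right h1 (by omega)) (Nat.pow_le_pow_left hpq _)
      _ = 2 * q ^ (n / 2) := by rw [mul_assoc, ← pow_add]; congr 2; omega

/-- Characteristic two, more than two elements. -/
theorem real_bound_two [CharP F 2] (hq : 4 ≤ q) (A : GL (Fin n) F)
    (h : ((A⁻¹ : GL (Fin n) F) : Mat).charpoly = (A : Mat).charpoly) :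
    (q - 1) * orderOf A ≤ q ^ (n / 2 + 1) := by
  haveI : Fact (Nat.Prime 2) := ⟨Nat.prime_two⟩
  obtain ⟨L, D, hL, hroot, hDn, hcnt, hcase⟩ := real_core 2 A h
  set K := n / 2 - D
  have hmult : ∀ x ∈ eig (A : Mat), (eig (A : Mat)).count x ≤ 2 ^ (2 * K) := fun x hx => by
    have hK := Nat.lt_two_pow_self (n := 2 * K)
    by_cases h1 : x ≠ 1 ∧ x ≠ -1
    · have := (hcnt x hx).1 h1; omega
    · have h2 : x = 1 ∨ x = -1 := by tauto
      have := (hcnt x hx).2 h2; omega
  have h4 : 2 ^ (2 * K) ≤ q ^ K := by rw [pow_mul]; exact Nat.pow_le_pow_left hq K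
  calc (q - 1) * orderOf A ≤ (q - 1) * (L * 2 ^ (2 * K)) :=
        Nat.mul_le_mul_left _ (orderOf_le_of_roots 2 A hL hroot hmult)
    _ = (q - 1) * L * 2 ^ (2 * K) := (mul_assoc _ _ _).symm
    _ ≤ q ^ (D + 1) * q ^ K := by
        refine Nat.mul_le_mul ?_ h4
        rcases hcase with ⟨rfl, rfl, -⟩ | ⟨hD1, hle, -⟩
        · simp
        · exact hle
    _ = q ^ (n / 2 + 1) := by rw [← pow_add]; congr 1; omega

/-- Two elements. -/
theorem real_bound_gf2 [CharP F 2] (hq : q = 2) (A : GL (Fin n) F)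
    (h : ((A⁻¹ : GL (Fin n) F) : Mat).charpoly = (A : Mat).charpoly) :
    orderOf A < 2 ^ ((n + 1) / 2 + 1) := by
  haveI : Fact (Nat.Prime 2) := ⟨Nat.prime_two⟩
  obtain ⟨L, D, hL, hroot, hDn, hcnt, hcase⟩ := real_core 2 A h
  set K := (n + 1) / 2 - D
  have hmult : ∀ x ∈ eig (A : Mat), (eig (A : Mat)).count x ≤ 2 ^ K := fun x hx => by
    have hK := two_mul_le_two_pow K
    have hK2 := Nat.lt_two_pow_self (n := K)
    by_cases h1 : x ≠ 1 ∧ x ≠ -1
    · have := (hcnt x hx).1 h1; omega
    · have h2 : x = 1 ∨ x = -1 := by tauto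
      have := (hcnt x hx).2 h2; omega
  refine lt_of_le_of_lt (orderOf_le_of_roots 2 A hL hroot hmult) ?_
  have e : 2 ^ ((n + 1) / 2 + 1) = 2 ^ (D + 1) * 2 ^ K := by rw [← pow_add]; congr 1; omega
  rw [e]
  refine Nat.mul_lt_mul_of_pos_right ?_ (pow_pos (by norm_num) _)
  rcases hcase with ⟨rfl, rfl, -⟩ | ⟨hD1, hle, hpow⟩
  · simp
  · rw [hq] at hle
    exact lt_of_le_of_ne (by simpa using hle) fun e => hpow rfl ⟨_, e⟩

end Cfsg.Agent.AutPSL.MaxOrder
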