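import Cfsg.Agent.Lib.AutPSL.MaxOrder.RootsBound
import Mathlib

set_option autoImplicit false

/-!
The case of unitary three-by-three matrices over four elements.
-/

namespace Cfsg.Agent.AutPSL.MaxOrder

open Matrix Polynomial
open scoped Classical

set_option linter.all false

variable {F : Type*} [Field F] [Finite F]

local notation "Mat" => Matrix (Fin 3) (Fin 3) F

theorem unitary_three [CharP F 2] (A : GL (Fin 3) F) (σ : F →+* F) (hσ : ∀ a, σ a = a ^ 2)
    (h : (((A⁻¹ : GL (Fin 3) F) : Mat).map σ).charpoly = (A : Mat).charpoly) :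
    orderOf A ≤ 9 ∨ ∃ f : F, (A : Mat) ^ 4 = f • (1 : Mat) := by
  classical
  haveI : Fact (Nat.Prime 2) := ⟨Nat.prime_two⟩
  obtain ⟨orb, horb⟩ := unitary_data 2 1 (r := 2) (by norm_num) A σ hσ h
  set M := eig (A : Mat) with hMd
  have hM : ∀ x ∈ M, ∃ s, 1 ≤ s ∧ s ≤ M.toFinset.card ∧
      x ^ (if decide (Odd s) then 2 ^ s + 1 else 2 ^ s - 1) = 1 := fun x hx => by
    obtain ⟨-, hsub, -, s, h1, h2, h3⟩ := horb x (Multiset.mem_toFinset.2 hx)
    exact ⟨s, h1, h2.trans (Finset.card_le_card hsub), h3⟩
  have hsum : ∑ x ∈ M.toFinset, M.count x = 3 := by rw [Multiset.toFinset_sum_count_eq, card_eig]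
  have hle3 : M.toFinset.card ≤ 3 := (Multiset.toFinset_card_le M).trans (card_eig _).le
  by_cases hall : ∀ x ∈ M, M.count x ≤ 1
  · refine Or.inl (le_trans (orderOf_le_of_roots 2 A (L := 9) (c := 0) (by norm_num) (fun x hx => ?_) hall)
      (by norm_num))
    obtain ⟨s, h1, h2, h3⟩ := hM x hx
    have : s = 1 ∨ s = 2 ∨ s = 3 := by omega
    rcases this with rfl | rfl | rfl <;> norm_num [Nat.odd_iff] at h3 <;>
      first
        | exact h3
        | rw [show (9 : ℕ) = 3 * 3 from rfl, pow_mul, h3, one_pow]
  · push Not at hall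
    obtain ⟨y, hy, hy2⟩ := hall
    have hy' := Multiset.mem_toFinset.2 hy
    have hrest : ∑ x ∈ M.toFinset.erase y, M.count x + M.count y = 3 := by
      rw [Finset.sum_erase_add _ _ hy', hsum]
    have hcard2 : M.toFinset.card ≤ 2 := by
      have h1 : (M.toFinset.erase y).card ≤ ∑ x ∈ M.toFinset.erase y, M.count x := by
        rw [Finset.card_eq_sum_ones]
        exact Finset.sum_le_sum fun x hx =>
          Multiset.one_le_count_iff_mem.2 (Multiset.mem_toFinset.1 (Finset.mem_of_mem_erase hx))
      have h2 := Finset.card_erase_add_one hy'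
      omega
    have hcube : ∀ x ∈ M, x ^ 3 = 1 := fun x hx => by
      obtain ⟨s, h1, h2, h3⟩ := hM x hx
      have : s = 1 ∨ s = 2 := by omega
      rcases this with rfl | rfl <;> norm_num [Nat.odd_iff] at h3 <;> exact h3
    by_cases hsmall : ∀ x ∈ M, M.count x ≤ 2
    · exact Or.inl (le_trans (orderOf_le_of_roots 2 A (L := 3) (c := 1) (by norm_num) hcube
        (fun x hx => by simpa using hsmall x hx)) (by norm_num))
    · push Not at hsmall
      obtain ⟨z, hz, hz2⟩ := hsmall
      have hz3 : M = Multiset.replicate 3 z := by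
        have hc : M.count z = 3 := le_antisymm ((Multiset.count_le_card z M).trans (card_eig _).le) hz2
        symm
        refine Multiset.eq_of_le_of_card_le (Multiset.le_count_iff_replicate_le.1 hc.ge) ?_
        rw [card_eig, Multiset.card_replicate]
      refine Or.inr ⟨(A : Mat).trace, ?_⟩
      have hz4 : z ^ 4 = z := by rw [show (4 : ℕ) = 3 + 1 from rfl, pow_succ, hcube z hz, one_mul]
      have htr : algebraMap F (AlgebraicClosure F) (A : Mat).trace = z := by
        have := Matrix.trace_eq_sum_roots_charpoly ((A : Mat).map (algebraMap F (AlgebraicClosure F)))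
        rw [Matrix.charpoly_map] at this
        change _ = M.sum at this
        rw [hz3, Multiset.sum_replicate] at this
        haveI hE2 : CharP (AlgebraicClosure F) 2 :=
          charP_of_injective_algebraMap (algebraMap F (AlgebraicClosure F)).injective 2
        conv_rhs at this => rw [show (3 : ℕ) • z = z + (z + z) by rw [succ_nsmul, two_nsmul]; abel, CharTwo.add_self_eq_zero,
          add_zero]
        rw [← this]
        simp [Matrix.trace, map_sum]
      have := pow_eq_smul 2 A (L := 1) (c := 2) one_pos z (A : Mat).trace (fun x hx => by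
        rw [pow_one]; exact Multiset.eq_of_mem_replicate (show x ∈ Multiset.replicate 3 z by rw [← hz3]; exact hx))
        (fun x hx => le_trans ((Multiset.count_le_card _ _).trans (card_eig _).le) (by norm_num))
        (by rw [htr]; simpa using hz4)
      simpa using this

end Cfsg.Agent.AutPSL.MaxOrder
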