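import Cfsg.Agent.Lib.AutPSL.MaxOrder.Semilinear
import Cfsg.Agent.Lib.GLOrders.Semisimple
import Cfsg.Agent.Lib.AutPSL.MaxOrder.RealBound
import Cfsg.Agent.Lib.AutPSL.MaxOrder.Unitary3
import Cfsg.Agent.Lib.AutPSL.MaxOrder.Arith
import Mathlib

set_option autoImplicit false
set_option linter.all false

/-!
The largest order of an automorphism of `PSL_n(q)`.
-/

namespace Cfsg.Agent.AutPSL.MaxOrder

open Matrix Polynomial

universe u
variable {n : ℕ} {F : Type u} [Field F]

local notation "PSLn" => Matrix.ProjectiveSpecialLinearGroup (Fin n) F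
local notation "Mat" => Matrix (Fin n) (Fin n) F
local notation "GLn" => GL (Fin n) F

theorem glItp_mul (A B : GLn) : glItp (A * B) = glItp A * glItp B := by
  apply Units.ext
  show (((A * B)⁻¹ : GLn) : Mat).transpose = ((A⁻¹ : GLn) : Mat).transpose * ((B⁻¹ : GLn) : Mat).transpose
  rw [← Matrix.transpose_mul, ← Units.val_mul, _root_.mul_inv_rev]

theorem glItp_glItp (A : GLn) : glItp (glItp A) = A := by
  apply Units.ext
  show (((glItp A)⁻¹ : GLn) : Mat).transpose = (A : Mat)
  exact Matrix.transpose_transpose _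

theorem glItp_map (σ : F →+* F) (A : GLn) :
    glItp (Matrix.GeneralLinearGroup.map σ A) = Matrix.GeneralLinearGroup.map σ (glItp A) := by
  apply Units.ext
  show (((Matrix.GeneralLinearGroup.map σ A)⁻¹ : GLn) : Mat).transpose = (((A⁻¹ : GLn) : Mat).transpose).map σ
  rw [← map_inv, Matrix.transpose_map]
  rfl

theorem graph_sim (A : GLn) (σ : RingAut F) (hσ : σ ^ 2 = 1) :
    ((((A * Matrix.GeneralLinearGroup.map (σ : F →+* F) (glItp A))⁻¹ : GLn) : Mat).map (σ : F →+* F)).charpoly =
      ((A * Matrix.GeneralLinearGroup.map (σ : F →+* F) (glItp A) : GLn) : Mat).charpoly := by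
  set N := A * Matrix.GeneralLinearGroup.map (σ : F →+* F) (glItp A) with hN
  have h2 : ∀ B : GLn, Matrix.GeneralLinearGroup.map (σ : F →+* F) (Matrix.GeneralLinearGroup.map (σ : F →+* F) B) = B := by
    intro B
    rw [← map_comp_mul, ← sq, hσ]
    apply Units.ext; ext i j; rfl
  have e : Matrix.GeneralLinearGroup.map (σ : F →+* F) (glItp N) = A⁻¹ * N * A := by
    rw [hN, glItp_mul, glItp_map, glItp_glItp, map_mul, h2, inv_mul_cancel_left]
  have e' := congrArg Units.val e
  rw [Units.val_mul, Units.val_mul] at e'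
  have e2 : (((glItp N : GLn) : Mat).map (σ : F →+* F)).charpoly = (N : Mat).charpoly := by
    refine (congrArg Matrix.charpoly e').trans ?_
    rw [Matrix.coe_units_inv, Matrix.charpoly_units_conj']
  rw [← e2, show (((glItp N : GLn) : Mat)) = ((N⁻¹ : GLn) : Mat).transpose from rfl, Matrix.transpose_map,
    Matrix.charpoly_transpose]

variable [Fintype F]

theorem exists_sqrt (p : ℕ) [hp : Fact p.Prime] [CharP F p] (σ : RingAut F) (hσ : orderOf σ = 2) :
    ∃ j r : ℕ, 1 ≤ j ∧ r = p ^ j ∧ Fintype.card F = r ^ 2 ∧ ∀ a, σ a = a ^ r := by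
  classical
  haveI : Finite (RingAut F) := Finite.of_injective (fun f => (f : F → F)) DFunLike.coe_injective
  let G := Subgroup.zpowers σ
  haveI : Fintype G := Fintype.ofFinite G
  haveI : FaithfulSMul G F := ⟨fun {a b} h => Subtype.ext (RingEquiv.ext h)⟩
  set K := FixedPoints.subfield G F
  haveI : Fintype K := Fintype.ofFinite K
  have hG : Fintype.card G = 2 := by rw [← Nat.card_eq_fintype_card, Nat.card_zpowers, hσ]
  have hfr : Module.finrank K F = 2 := by rw [FixedPoints.finrank_eq_card, hG]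
  haveI : CharP K p := (algebraMap K F).charP (algebraMap K F).injective p
  obtain ⟨⟨j, hj⟩, -, hK⟩ := FiniteField.card K p
  refine ⟨j, Fintype.card K, hj, hK, by rw [Module.card_eq_pow_finrank (K := K) (V := F), hfr], ?_⟩
  let s : F ≃ₐ[K] F := AlgEquiv.ofRingEquiv (f := σ) fun x => x.2 ⟨σ, Subgroup.mem_zpowers σ⟩
  obtain ⟨⟨i, hi⟩, hs⟩ := (FiniteField.bijective_frobeniusAlgEquivOfAlgebraic_pow K F).2 s
  have hs' : ∀ a, σ a = a ^ Fintype.card K ^ i := fun a => by
    have := DFunLike.congr_fun hs a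
    simp only [AlgEquiv.coe_pow, FiniteField.coe_frobeniusAlgEquivOfAlgebraic_iterate] at this
    exact this.symm
  have hi1 : i = 1 := by
    rcases Nat.eq_zero_or_pos i with rfl | h
    · have : σ = 1 := RingEquiv.ext fun a => by rw [hs' a, pow_zero, pow_one]; rfl
      rw [this, orderOf_one] at hσ
      omega
    · rw [hfr] at hi; omega
  intro a
  rw [hs', hi1, pow_one]

theorem graph_case (p : ℕ) [hp : Fact p.Prime] [CharP F p] (hn : 3 ≤ n)
    (h32 : ¬ (n = 3 ∧ Fintype.card F = 2)) (A : GLn) (σ : RingAut F) :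
    (Fintype.card F - 1) * orderOf (descend (cj A * fld σ * gpart true)) ≤ Fintype.card F ^ n - 1 := by
  classical
  haveI : Finite (RingAut F) := Finite.of_injective (fun f => (f : F → F)) DFunLike.coe_injective
  set φ := descend (cj A * fld σ * gpart true)
  set N := A * Matrix.GeneralLinearGroup.map (σ : F →+* F) (glItp A)
  have hsq : φ ^ 2 = descend (cj N * fld (σ ^ 2 : RingAut F)) := by
    have e : (cj A * fld σ * gpart true) * (cj A * fld σ * gpart true) =
        cj N * fld (σ.trans σ) * (gpart (xor true true) : MulAut (Matrix.SpecialLinearGroup (Fin n) F)) :=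
      nf_mul A A σ σ true true
    rw [sq, ← map_mul, e, sq]
    simp [gpart]
    rfl
  have hhalf : orderOf φ ≤ 2 * orderOf (φ ^ 2) := by
    refine Nat.le_of_dvd (Nat.mul_pos two_pos (orderOf_pos _)) (orderOf_dvd_of_pow_eq_one ?_)
    rw [pow_mul, pow_orderOf_eq_one]
  rw [hsq] at hhalf
  have hq1 : 1 < Fintype.card F := Fintype.one_lt_card
  by_cases hσ2 : σ ^ 2 = 1
  swap
  · obtain ⟨k, hk, hqk, hle⟩ := semilinear_le (by omega : 0 < n) N (σ ^ 2)
    have hm : 2 ≤ orderOf (σ ^ 2) := by
      have h1 := orderOf_pos (σ ^ 2)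
      have h2 : orderOf (σ ^ 2) ≠ 1 := fun h => hσ2 (orderOf_eq_one_iff.1 h)
      omega
    have hexc : ¬ (k = 2 ∧ orderOf (σ ^ 2) = 2) := by
      rintro ⟨rfl, hm2⟩
      obtain ⟨k', hk', hqk', -⟩ := semilinear_le (by omega : 0 < n) A σ
      have h4 : orderOf σ = 2 ^ (1 + 1) := orderOf_eq_prime_pow (p := 2) (by simpa using hσ2)
        (by
          have := pow_orderOf_eq_one (σ ^ 2)
          rw [hm2, ← pow_mul] at this
          simpa using this)
      rw [hm2] at hqk
      rw [h4] at hqk'
      have := Nat.pow_le_pow_left hk' 4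
      norm_num at hqk hqk' this
      omega
    refine le_trans (Nat.mul_le_mul_left _ hhalf) ?_
    refine lift_bound hk hm (by omega) hqk (Or.inr ⟨rfl, hn, hexc⟩) ?_
    rw [mul_left_comm, mul_assoc 2]
    exact Nat.mul_le_mul_left 2 hle
  have hN : orderOf (descend (cj N * fld (σ ^ 2 : RingAut F))) ≤ orderOf N := by
    rw [hσ2, show (fld (1 : RingAut F) : MulAut (Matrix.SpecialLinearGroup (Fin n) F)) = 1 from fld_one, mul_one]
    exact Nat.le_of_dvd (orderOf_pos _) (orderOf_map_dvd (descend.comp cj) N)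
  have hfin : ∀ T, 2 * orderOf (descend (cj N * fld (σ ^ 2 : RingAut F))) ≤ T →
      (Fintype.card F - 1) * T ≤ Fintype.card F ^ n - 1 →
      (Fintype.card F - 1) * orderOf φ ≤ Fintype.card F ^ n - 1 := fun T h1 h2 =>
    le_trans (Nat.mul_le_mul_left _ (hhalf.trans h1)) h2
  have hsim := graph_sim A σ hσ2
  by_cases hσ1 : σ = 1
  · have hsim' : ((N⁻¹ : GLn) : Mat).charpoly = (N : Mat).charpoly := by
      refine Eq.trans ?_ hsim
      have e : ∀ M : Mat, M.map ((σ : F ≃+* F) : F →+* F) = M := fun M => by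
        ext i j; rw [hσ1]; rfl
      exact (congrArg Matrix.charpoly (e _)).symm
    by_cases hp2 : p = 2
    · subst hp2
      by_cases hq2 : Fintype.card F = 2
      · have ho := real_bound_gf2 hq2 N hsim'
        refine hfin (2 * (2 ^ ((n + 1) / 2 + 1) - 1)) (by omega) ?_
        rw [hq2]
        have h4 : 4 ≤ n := by
          rcases Nat.lt_or_ge n 4 with h | h
          · exact absurd ⟨by omega, hq2⟩ h32
          · exact h
        have hpw : 2 ^ ((n + 1) / 2 + 2) ≤ 2 ^ n := Nat.pow_le_pow_right (by norm_num) (by omega)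
        rw [pow_succ] at hpw
        omega
      · have hq4 : 4 ≤ Fintype.card F := by
          obtain ⟨⟨f, hf⟩, -, hcard⟩ := FiniteField.card F 2
          change Fintype.card F = 2 ^ f at hcard
          have : 2 ≤ f := by
            rcases Nat.lt_or_ge f 2 with h | h
            · obtain rfl : f = 1 := by omega
              exact absurd hcard hq2
            · exact h
          rw [hcard]
          exact le_trans (by norm_num) (Nat.pow_le_pow_right (by norm_num) this)
        have ho := real_bound_two hq4 N hsim'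
        refine le_trans (Nat.mul_le_mul_left _ (hhalf.trans (Nat.mul_le_mul_left 2 hN))) ?_
        rw [mul_left_comm]
        exact le_trans (Nat.mul_le_mul_left 2 ho) (final_two hq4 hn)
    · have ho := real_bound_odd p hp2 N hsim'
      have hq3 : 3 ≤ Fintype.card F := by
        obtain ⟨⟨f, hf⟩, -, hcard⟩ := FiniteField.card F p
        have := hp.out.two_le
        rw [hcard]
        exact le_trans (by omega) (Nat.le_self_pow (by simp; omega) p)
      exact hfin (4 * Fintype.card F ^ (n / 2)) (by omega) (final_odd hq3 hn)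
  · have hord : orderOf σ = 2 := orderOf_eq_prime hσ2 hσ1
    obtain ⟨j, r, hj, hr, hqr, hσr⟩ := exists_sqrt p σ hord
    have hr2 : 2 ≤ r := hr ▸ le_trans hp.out.two_le (Nat.le_self_pow (by omega) p)
    by_cases hexc : r = 2 ∧ n = 3
    · obtain ⟨rfl, rfl⟩ := hexc
      obtain rfl : p = 2 := by
        have : p ∣ 2 := hr ▸ dvd_pow_self p (by omega)
        exact (Nat.prime_dvd_prime_iff_eq hp.out Nat.prime_two).1 this
      have hsmall : orderOf (descend (cj N * fld (σ ^ 2 : RingAut F))) ≤ 9 := by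
        rcases unitary_three N (σ : F →+* F) hσr hsim with h | ⟨c, hc⟩
        · exact hN.trans h
        · rw [hσ2, show (fld (1 : RingAut F) : MulAut (Matrix.SpecialLinearGroup (Fin 3) F)) = 1 from fld_one,
            mul_one]
          refine le_trans (Nat.le_of_dvd (by norm_num) (orderOf_dvd_of_pow_eq_one (n := 4) ?_)) (by norm_num)
          rw [← map_pow, ← map_pow, descend_cj_eq_of_smul (B := 1) (c := c) (by
            rw [Units.val_pow_eq_pow_val, hc, Units.val_one]), map_one, map_one]
      refine hfin 18 (by omega) ?_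
      rw [hqr]
      norm_num
    · have ho := unitary_bound p j (by omega : 1 ≤ n) hj hr N (σ : F →+* F) hσr hsim
      refine le_trans (Nat.mul_le_mul_left _ (hhalf.trans (Nat.mul_le_mul_left 2 hN))) ?_
      rw [hqr]
      refine le_trans ?_ (final_unitary hr2 hn hexc)
      rw [mul_comm (r ^ 2 - 1), show r ^ 2 - 1 = (r - 1) * (r + 1) by
        obtain ⟨t, rfl⟩ : ∃ t, r = t + 1 := ⟨r - 1, by omega⟩
        rw [Nat.add_sub_cancel]
        have : (t + 1) ^ 2 = t * (t + 1 + 1) + 1 := by ring
        omega,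
        ← mul_assoc, mul_assoc 2, mul_comm (orderOf N)]
      exact Nat.mul_le_mul_right _ (Nat.mul_le_mul_left 2 ho)

theorem upper_bound (hn : 2 ≤ n) (h24 : ¬ (n = 2 ∧ Fintype.card F = 4))
    (h32 : ¬ (n = 3 ∧ Fintype.card F = 2)) (φ : MulAut PSLn) :
    (Fintype.card F - 1) * orderOf φ ≤ Fintype.card F ^ n - 1 := by
  classical
  haveI : Finite (RingAut F) := Finite.of_injective (fun f => (f : F → F)) DFunLike.coe_injective
  obtain ⟨p, hchar⟩ := CharP.exists F
  obtain ⟨⟨f, hf⟩, hp, -⟩ := FiniteField.card F p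
  haveI := Fact.mk hp
  obtain ⟨A, hφ, hgr⟩ := exists_rep p hn φ
  set σ : RingAut F := fieldPart p hn φ
  cases hg : graphPart p hn φ
  · rw [hg] at hφ
    have hφ' : φ = descend (cj A * fld σ) := by rw [hφ]; simp [gpart]
    by_cases hσ : σ = 1
    · rw [hφ', hσ, show (fld (1 : RingAut F) : MulAut (Matrix.SpecialLinearGroup (Fin n) F)) = 1 from fld_one,
        mul_one]
      exact linear_le (by omega) A
    · obtain ⟨k, hk, hqk, hle⟩ := semilinear_le (by omega : 0 < n) A σ
      have hm : 2 ≤ orderOf σ := by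
        have h1 := orderOf_pos σ
        have h2 : orderOf σ ≠ 1 := fun h => hσ (orderOf_eq_one_iff.1 h)
        omega
      rw [← hφ'] at hle
      refine lift_bound hk hm hn hqk (Or.inl ⟨rfl, ?_⟩) (by rw [one_mul]; exact hle)
      rintro ⟨rfl, hm2, hn2⟩
      exact h24 ⟨hn2, by rw [hqk, hm2]; norm_num⟩
  · have hn3 : 3 ≤ n := by
      rcases Nat.lt_or_ge n 3 with h | h
      · exact absurd (hgr (by omega)) (by rw [hg]; simp)
      · exact h
    rw [hg] at hφ
    rw [hφ]
    exact graph_case p hn3 h32 A σ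

theorem exists_max (hn : 2 ≤ n) :
    ∃ φ : MulAut PSLn, (Fintype.card F - 1) * orderOf φ = Fintype.card F ^ n - 1 := by
  classical
  obtain ⟨p, hchar⟩ := CharP.exists F
  obtain ⟨⟨f, hf⟩, hp, -⟩ := FiniteField.card F p
  haveI := Fact.mk hp
  haveI : Nonempty (Fin n) := ⟨⟨0, by omega⟩⟩
  obtain ⟨A, hA⟩ := GLOrders.exists_orderOf_eq_pow_sub_one (F := F) (show 1 ≤ n by omega) le_rfl
  refine ⟨descend (cj A), le_antisymm (linear_le (by omega) A) (Nat.le_of_dvd ?_ ?_)⟩
  · exact Nat.mul_pos (Nat.sub_pos_of_lt Fintype.one_lt_card) (orderOf_pos _)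
  rw [← hA]
  refine orderOf_dvd_of_pow_eq_one ?_
  have hc : A ^ orderOf (descend (cj A)) ∈ Subgroup.center GLn := by
    have h1 := pow_orderOf_eq_one (descend (cj A))
    rw [← map_pow, ← map_pow] at h1
    obtain ⟨h2, -, -⟩ := normal_form_unique p hn (Or.inr rfl) (g := A ^ orderOf (descend (cj A))) (h := (1 : GLn))
      (σ := RingEquiv.refl F) (τ := RingEquiv.refl F) (a := false) (b := false)
      (by simpa [gpart, fld_one] using h1)
    simpa using h2
  rw [Matrix.GeneralLinearGroup.center_eq_range_scalar] at hc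
  obtain ⟨c, hc⟩ := hc
  rw [mul_comm, pow_mul, ← hc, ← map_pow, ← Fintype.card_units, pow_card_eq_one, map_one]

end Cfsg.Agent.AutPSL.MaxOrder
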