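import Cfsg.Agent.Lib.OrthOrders.Bound
import Mathlib

set_option autoImplicit false

/-!
Counting orbits of eigenvalues to bound the exponent of a matrix.
-/

namespace Cfsg.Agent.AutPSL.MaxOrder

open Polynomial Finset

variable {E : Type*} [Field E] [DecidableEq E]

/-- The general orbit bound. -/
theorem orbit_bound {Q c : ℕ} (hQ : 2 ≤ Q) (M : Multiset E) (R : Finset E) (orb : E → Finset E)
    (d : E → ℕ) (b : E → Bool) (hsub : ∀ x ∈ R, orb x ⊆ R) (hself : ∀ x ∈ R, x ∈ orb x)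
    (heq : ∀ x ∈ R, ∀ y ∈ orb x, orb y = orb x)
    (hcount : ∀ x ∈ R, ∀ y ∈ orb x, M.count y = M.count x)
    (hpow : ∀ x ∈ R, ∀ y ∈ orb x, ∀ L : ℕ, x ^ L = 1 → y ^ L = 1)
    (hd : ∀ x ∈ R, 1 ≤ d x) (hcard : ∀ x ∈ R, c * d x ≤ (orb x).card)
    (hexp : ∀ x ∈ R, x ^ (if b x then Q ^ d x + 1 else Q ^ d x - 1) = 1)
    (hM : ∀ x ∈ R, 1 ≤ M.count x) :
    ∃ L D, 0 < L ∧ (∀ x ∈ R, x ^ L = 1) ∧ (Q - 1) * L ≤ Q ^ (D + 1) ∧
      c * D ≤ ∑ x ∈ R, M.count x ∧
      (∀ x ∈ R, c * (D + (M.count x - 1)) ≤ ∑ x ∈ R, M.count x) ∧ (R.Nonempty → 1 ≤ D) ∧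
      (R.Nonempty → Odd Q → Even L) := by
  set Os := R.image orb
  have hrep : ∀ O ∈ Os, ∃ x ∈ R, orb x = O := fun O hO => Finset.mem_image.1 hO
  choose! rep hrepR hrepO using hrep
  obtain ⟨L, hL, hdvd, hle⟩ := OrthOrders.lcm_bound hQ Os (fun O => d (rep O)) (fun O => b (rep O))
    (fun O hO => hd _ (hrepR O hO))
  set D := ∑ O ∈ Os, d (rep O)
  set f : Finset E → ℕ := fun O => d (rep O) * M.count (rep O)
  have hsum : c * ∑ O ∈ Os, f O ≤ ∑ x ∈ R, M.count x := by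
    rw [Finset.mul_sum, ← Finset.sum_fiberwise_of_maps_to (t := Os) (g := orb)
      fun x hx => Finset.mem_image_of_mem orb hx]
    refine Finset.sum_le_sum fun O hO => ?_
    calc c * f O = c * d (rep O) * M.count (rep O) := (mul_assoc _ _ _).symm
      _ ≤ (orb (rep O)).card * M.count (rep O) := Nat.mul_le_mul_right _ (hcard _ (hrepR O hO))
      _ = ∑ x ∈ orb (rep O), M.count x := by
          rw [Finset.sum_const_nat fun x hx => hcount _ (hrepR O hO) x hx]
      _ ≤ _ := Finset.sum_le_sum_of_subset fun x hx => Finset.mem_filter.2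
          ⟨hsub _ (hrepR O hO) hx, (heq _ (hrepR O hO) x hx).trans (hrepO O hO)⟩
  refine ⟨L, D, hL, fun x hx => ?_, hle, ?_, fun x hx => ?_, fun ⟨x, hx⟩ => ?_, fun ⟨x, hx⟩ hQo => ?_⟩
  · have hO : orb x ∈ Os := Finset.mem_image_of_mem orb hx
    refine hpow _ (hrepR _ hO) x (by rw [hrepO _ hO]; exact hself x hx) L ?_
    obtain ⟨k, hk⟩ := hdvd _ hO
    rw [hk, pow_mul, hexp _ (hrepR _ hO), one_pow]
  · refine le_trans (Nat.mul_le_mul_left c (Finset.sum_le_sum fun O hO => ?_)) hsum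
    exact Nat.le_mul_of_pos_right _ (hM _ (hrepR O hO))
  · refine le_trans (Nat.mul_le_mul_left c ?_) hsum
    have hO : orb x ∈ Os := Finset.mem_image_of_mem orb hx
    have hxm : x ∈ orb (rep (orb x)) := by rw [hrepO _ hO]; exact hself x hx
    rw [hcount _ (hrepR _ hO) x hxm]
    have e : ∀ O ∈ Os, f O = d (rep O) + d (rep O) * (M.count (rep O) - 1) := fun O hO => by
      obtain ⟨k, hk⟩ : ∃ k, M.count (rep O) = k + 1 :=
        ⟨_, (Nat.sub_add_cancel (hM _ (hrepR O hO))).symm⟩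
      simp only [f, hk, Nat.add_sub_cancel]
      ring
    rw [Finset.sum_congr rfl e, Finset.sum_add_distrib]
    refine Nat.add_le_add_left (le_trans ?_ (Finset.single_le_sum
      (f := fun O => d (rep O) * (M.count (rep O) - 1)) (fun _ _ => Nat.zero_le _) hO)) _
    exact Nat.le_mul_of_pos_left _ (hd _ (hrepR _ hO))
  · exact le_trans (hd _ (hrepR _ (Finset.mem_image_of_mem orb hx)))
      (Finset.single_le_sum (f := fun O => d (rep O)) (fun _ _ => Nat.zero_le _) (Finset.mem_image_of_mem orb hx))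
  · have hO : orb x ∈ Os := Finset.mem_image_of_mem orb hx
    obtain ⟨k, hk⟩ := hdvd _ hO
    rw [hk]
    refine Even.mul_right ?_ k
    have hqd := hQo.pow (n := d (rep (orb x)))
    split_ifs
    · exact hqd.add_one
    · obtain ⟨e, he⟩ := hqd; exact ⟨e, by omega⟩

theorem period_exists {E : Type*} [Finite E] (τ : E → E) (hτ : Function.Injective τ) (x : E) :
    ∃ s, 0 < s ∧ τ^[s] x = x :=
  ⟨Function.minimalPeriod τ x, Function.minimalPeriod_pos_of_mem_periodicPts (hτ.mem_periodicPts x),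
    Function.iterate_minimalPeriod⟩

end Cfsg.Agent.AutPSL.MaxOrder
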