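import Cfsg.Agent.Lib.AutPSL.MaxOrder.Orbits
import Mathlib

set_option autoImplicit false

/-!
Matrices similar to their twisted inverse transpose have small order.
-/

namespace Cfsg.Agent.AutPSL.MaxOrder

open Matrix Polynomial
open scoped Classical

set_option linter.all false

variable {n : ℕ} {F : Type*} [Field F]

local notation "Mat" => Matrix (Fin n) (Fin n) F

/-- The eigenvalues in the algebraic closure. -/
noncomputable def eig (A : Mat) : Multiset (AlgebraicClosure F) :=
  (A.charpoly.map (algebraMap F (AlgebraicClosure F))).roots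

theorem card_eig (A : Mat) : (eig A).card = n := by
  rw [eig, ← (IsAlgClosed.splits _).natDegree_eq_card_roots, natDegree_map, Matrix.charpoly_natDegree_eq_dim,
    Fintype.card_fin]

theorem charpoly_map_eq (A : Mat) :
    A.charpoly.map (algebraMap F (AlgebraicClosure F)) = ((eig A).map fun a => X - C a).prod :=
  (IsAlgClosed.splits _).eq_prod_roots_of_monic ((Matrix.charpoly_monic A).map _)

theorem zero_notMem_eig (A : GL (Fin n) F) : (0 : AlgebraicClosure F) ∉ eig (A : Mat) := by
  intro h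
  have hdet : ((A : Mat).map (algebraMap F (AlgebraicClosure F))).det ≠ 0 := by
    rw [← RingHom.mapMatrix_apply, ← RingHom.map_det]
    exact (_root_.map_ne_zero _).2 (A.isUnit.map Matrix.detMonoidHom).ne_zero
  refine hdet ?_
  rw [Matrix.det_eq_prod_roots_charpoly, Matrix.charpoly_map]
  exact Multiset.prod_eq_zero h

theorem eig_inv (A : GL (Fin n) F) : eig ((A⁻¹ : GL (Fin n) F) : Mat) = (eig (A : Mat)).map (·⁻¹) := by
  set B := (A : Mat).map (algebraMap F (AlgebraicClosure F)) with hB
  have hdet : B.det ≠ 0 := by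
    rw [hB, ← RingHom.mapMatrix_apply, ← RingHom.map_det]
    exact (_root_.map_ne_zero _).2 (A.isUnit.map Matrix.detMonoidHom).ne_zero
  have hu : IsUnit B := (Matrix.isUnit_iff_isUnit_det _).2 (isUnit_iff_ne_zero.2 hdet)
  have h1 : B⁻¹ = ((A⁻¹ : GL (Fin n) F) : Mat).map (algebraMap F (AlgebraicClosure F)) := by
    refine Matrix.inv_eq_right_inv ?_
    rw [hB, ← Matrix.map_mul, ← Units.val_mul, mul_inv_cancel, Units.val_one,
      Matrix.map_one _ (map_zero _) (map_one _)]
  have e := Matrix.charpoly_inv B hu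
  rw [h1, Matrix.charpoly_map, ← Matrix.reverse_charpoly, hB, Matrix.charpoly_map, charpoly_map_eq (A : Mat)] at e
  have e2 := congrArg Polynomial.roots e
  rw [← map_one C, ← C_neg, ← C_pow, ← C_mul, roots_C_mul, OrthOrders.roots_reverse_prod _ (zero_notMem_eig A)] at e2
  · exact e2
  · refine mul_ne_zero (pow_ne_zero _ (neg_ne_zero.2 one_ne_zero)) ?_
    rw [Ring.inverse_eq_inv]
    exact inv_ne_zero hdet

/-- The eigenvalues of a matrix similar to its twisted inverse. -/
theorem eig_invariant (A : GL (Fin n) F) (σ : F →+* F) (ψ : AlgebraicClosure F →+* AlgebraicClosure F)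
    (hψ : ∀ a, ψ (algebraMap F _ a) = algebraMap F _ (σ a))
    (h : (((A⁻¹ : GL (Fin n) F) : Mat).map σ).charpoly = (A : Mat).charpoly) :
    (eig (A : Mat)).map (fun x => ψ x⁻¹) = eig (A : Mat) := by
  have e : (((A⁻¹ : GL (Fin n) F) : Mat).charpoly.map (algebraMap F (AlgebraicClosure F))).map ψ =
      (A : Mat).charpoly.map (algebraMap F (AlgebraicClosure F)) := by
    rw [Polynomial.map_map, ← h, Matrix.charpoly_map, Polynomial.map_map]
    exact congrArg (Polynomial.map · _) (RingHom.ext hψ)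
  conv_rhs => rw [eig, ← e]
  rw [← Polynomial.roots_map_of_injective_of_card_eq_natDegree ψ.injective (IsAlgClosed.splits _).natDegree_eq_card_roots.symm]
  show _ = (eig ((A⁻¹ : GL (Fin n) F) : Mat)).map ψ
  rw [eig_inv, Multiset.map_map]
  rfl

/-- From roots and multiplicities to the exponent. -/
theorem pow_eq_smul (p : ℕ) [hp : Fact p.Prime] [CharP F p] (A : GL (Fin n) F) {L c : ℕ} (hL : 0 < L)
    (e : AlgebraicClosure F) (f : F) (hroot : ∀ x ∈ eig (A : Mat), x ^ L = e)
    (hmult : ∀ x ∈ eig (A : Mat), (eig (A : Mat)).count x ≤ p ^ c)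
    (hf : e ^ p ^ c = algebraMap F _ f) : (A : Mat) ^ (L * p ^ c) = f • (1 : Mat) := by
  classical
  haveI : CharP (AlgebraicClosure F) p :=
    charP_of_injective_algebraMap (algebraMap F (AlgebraicClosure F)).injective p
  set M := eig (A : Mat)
  have hne : (X ^ L - C e : (AlgebraicClosure F)[X]) ≠ 0 := X_pow_sub_C_ne_zero hL e
  have hdist : (M.dedup.map fun a => X - C a).prod ∣ (X ^ L - C e) := by
    rw [Multiset.prod_X_sub_C_dvd_iff_le_roots hne, Multiset.le_iff_subset (Multiset.nodup_dedup M)]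
    intro x hx
    rw [mem_roots hne]
    simp [hroot x (Multiset.mem_dedup.1 hx)]
  have h1 : (A : Mat).charpoly.map (algebraMap F (AlgebraicClosure F)) ∣ (X ^ L - C e) ^ p ^ c := by
    rw [charpoly_map_eq]
    refine dvd_trans ?_ (pow_dvd_pow_of_dvd hdist _)
    rw [← Multiset.prod_nsmul, ← Multiset.map_nsmul]
    refine Multiset.prod_dvd_prod_of_le (Multiset.map_le_map (Multiset.le_iff_count.2 fun x => ?_))
    rw [Multiset.count_nsmul]
    by_cases hx : x ∈ M
    · rw [Multiset.count_eq_one_of_mem (Multiset.nodup_dedup M) (Multiset.mem_dedup.2 hx), mul_one]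
      exact hmult x hx
    · rw [Multiset.count_eq_zero_of_notMem hx]; exact Nat.zero_le _
  rw [sub_pow_char_pow, ← C_pow, hf, ← pow_mul] at h1
  have h2 : (A : Mat).charpoly ∣ X ^ (L * p ^ c) - C f := by
    rw [← Polynomial.map_dvd_map' (algebraMap F (AlgebraicClosure F))]
    simpa using h1
  obtain ⟨S, hS⟩ := h2
  have h3 := congrArg (aeval (A : Mat)) hS
  rw [map_mul (aeval (A : Mat)) (A : Mat).charpoly, Matrix.aeval_self_charpoly, zero_mul, map_sub, map_pow,
    aeval_X, aeval_C, sub_eq_zero] at h3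
  rw [h3, Algebra.algebraMap_eq_smul_one]

theorem orderOf_le_of_roots (p : ℕ) [hp : Fact p.Prime] [CharP F p] [Finite F] (A : GL (Fin n) F) {L c : ℕ}
    (hL : 0 < L) (hroot : ∀ x ∈ eig (A : Mat), x ^ L = 1)
    (hmult : ∀ x ∈ eig (A : Mat), (eig (A : Mat)).count x ≤ p ^ c) : orderOf A ≤ L * p ^ c := by
  refine Nat.le_of_dvd (Nat.mul_pos hL (pow_pos hp.out.pos _)) (orderOf_dvd_of_pow_eq_one (Units.ext ?_))
  rw [Units.val_pow_eq_pow_val, pow_eq_smul p A hL 1 1 hroot hmult (by rw [one_pow, map_one]), one_smul,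
    Units.val_one]

section Unitary

variable {r : ℕ} (p j : ℕ) [hp : Fact p.Prime] [CharP F p]

theorem unitary_invariant (hr : r = p ^ j) (A : GL (Fin n) F) (σ : F →+* F) (hσ : ∀ a, σ a = a ^ r)
    (h : (((A⁻¹ : GL (Fin n) F) : Mat).map σ).charpoly = (A : Mat).charpoly) :
    (eig (A : Mat)).map (fun x => x ^ (-(r : ℤ))) = eig (A : Mat) := by
  haveI : CharP (AlgebraicClosure F) p :=
    charP_of_injective_algebraMap (algebraMap F (AlgebraicClosure F)).injective p
  haveI : ExpChar (AlgebraicClosure F) p := ExpChar.prime hp.out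
  have hψ : ∀ x : AlgebraicClosure F, iterateFrobenius (AlgebraicClosure F) p j x = x ^ r := fun x => by
    rw [hr]; exact iterateFrobenius_def p j x
  conv_rhs => rw [← eig_invariant A σ (iterateFrobenius (AlgebraicClosure F) p j)
    (fun a => by rw [hψ, hσ, map_pow]) h]
  refine Multiset.map_congr rfl fun x _ => ?_
  rw [hψ, _root_.inv_pow, _root_.zpow_neg, _root_.zpow_natCast]

/-- Orbit data in the unitary case. -/
theorem unitary_data (hr : r = p ^ j) (A : GL (Fin n) F) (σ : F →+* F) (hσ : ∀ a, σ a = a ^ r)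
    (h : (((A⁻¹ : GL (Fin n) F) : Mat).map σ).charpoly = (A : Mat).charpoly) :
    ∃ orb : AlgebraicClosure F → Finset (AlgebraicClosure F), ∀ x ∈ (eig (A : Mat)).toFinset,
      x ∈ orb x ∧ orb x ⊆ (eig (A : Mat)).toFinset ∧
      (∀ y ∈ orb x, orb y = orb x ∧ (eig (A : Mat)).count y = (eig (A : Mat)).count x ∧
        ∀ L : ℕ, x ^ L = 1 → y ^ L = 1) ∧
      ∃ s, 1 ≤ s ∧ s ≤ (orb x).card ∧
        x ^ (if decide (Odd s) then r ^ s + 1 else r ^ s - 1) = 1 := by
  classical
  haveI : CharP (AlgebraicClosure F) p :=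
    charP_of_injective_algebraMap (algebraMap F (AlgebraicClosure F)).injective p
  haveI : ExpChar (AlgebraicClosure F) p := ExpChar.prime hp.out
  set M := eig (A : Mat)
  set τ : AlgebraicClosure F → AlgebraicClosure F := fun x => x ^ (-(r : ℤ))
  have hinv : M.map τ = M := unitary_invariant p j hr A σ hσ h
  have hτi : Function.Injective τ := by
    intro a b e
    simp only [τ, _root_.zpow_neg, _root_.zpow_natCast, _root_.inv_inj, hr, ← iterateFrobenius_def] at e
    exact (iterateFrobenius (AlgebraicClosure F) p j).injective e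
  have hcτ : ∀ x i, M.count (τ^[i] x) = M.count x := fun x i => by
    induction i with
    | zero => rfl
    | succ i ih =>
      rw [Function.iterate_succ_apply', ← ih]
      conv_lhs => rw [← hinv]
      exact Multiset.count_map_eq_count' _ _ hτi _
  have hit : ∀ x i, τ^[i] x = x ^ ((-(r : ℤ)) ^ i) := fun x i => by
    induction i with
    | zero => simp
    | succ i ih => rw [Function.iterate_succ_apply', ih, pow_succ, _root_.zpow_mul]
  let R := M.toFinset
  have hmem : ∀ x ∈ R, ∀ i, τ^[i] x ∈ R := fun x hx i => by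
    simp only [R, Multiset.mem_toFinset] at hx ⊢
    exact Multiset.count_pos.1 (by rw [hcτ]; exact Multiset.count_pos.2 hx)
  have hper : ∀ x ∈ R, x ∈ Function.periodicPts τ := fun x hx => by
    obtain ⟨i, k, hne, e⟩ := Finite.exists_ne_map_eq_of_infinite fun i : ℕ => (⟨τ^[i] x, hmem x hx i⟩ : R)
    have e' : τ^[i] x = τ^[k] x := congrArg Subtype.val e
    wlog hik : i < k generalizing i k
    · exact this k i hne.symm e.symm e'.symm (by omega)
    refine Function.mk_mem_periodicPts (show 0 < k - i by omega) ?_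
    refine hτi.iterate i ?_
    rw [← Function.iterate_add_apply, Nat.add_sub_cancel' hik.le, e']
  refine ⟨fun x => R.filter fun y => ∃ i, τ^[i] x = y, fun x hx => ⟨?_, Finset.filter_subset _ _, ?_, ?_⟩⟩
  · exact Finset.mem_filter.2 ⟨hx, 0, rfl⟩
  · intro y hy
    obtain ⟨-, i, rfl⟩ := Finset.mem_filter.1 hy
    refine ⟨Finset.filter_congr fun z _ => ⟨?_, ?_⟩, hcτ x i, fun L hL => ?_⟩
    · rintro ⟨k, rfl⟩
      exact ⟨k + i, Function.iterate_add_apply _ _ _ _⟩
    · rintro ⟨k, rfl⟩
      set s := Function.minimalPeriod τ x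
      have hs : 0 < s := Function.minimalPeriod_pos_of_mem_periodicPts (hper x hx)
      have hle : i ≤ s * i + k := (Nat.le_mul_of_pos_left i hs).trans (Nat.le_add_right _ _)
      refine ⟨s * i + k - i, ?_⟩
      rw [← Function.iterate_add_apply, Nat.sub_add_cancel hle, add_comm, Function.iterate_add_apply]
      congr 1
      exact ((Function.isPeriodicPt_minimalPeriod τ x).mul_const i).eq
    · rw [hit, ← _root_.zpow_natCast, ← _root_.zpow_mul, mul_comm, _root_.zpow_mul, _root_.zpow_natCast, hL, _root_.one_zpow]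
  · set s := Function.minimalPeriod τ x
    have hs : 0 < s := Function.minimalPeriod_pos_of_mem_periodicPts (hper x hx)
    refine ⟨s, hs, ?_, ?_⟩
    · rw [← Finset.card_range s]
      refine Finset.card_le_card_of_injOn (fun i => τ^[i] x) (fun i _ => ?_) ?_
      · exact Finset.mem_filter.2 ⟨hmem x hx i, i, rfl⟩
      · intro a ha b hb e
        exact Function.iterate_injOn_Iio_minimalPeriod (Finset.mem_range.1 ha) (Finset.mem_range.1 hb) e
    · have hx0 : x ≠ 0 := fun e => zero_notMem_eig A (e ▸ Multiset.mem_toFinset.1 hx)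
      have hfix : x ^ ((-(r : ℤ)) ^ s) = x := by rw [← hit]; exact Function.iterate_minimalPeriod
      have h1 : x ^ ((-(r : ℤ)) ^ s - 1) = 1 := by
        rw [_root_.zpow_sub₀ hx0, hfix, _root_.zpow_one, div_self hx0]
      have hrs : 1 ≤ r ^ s := Nat.one_le_pow _ _ (hr ▸ pow_pos hp.out.pos _)
      by_cases ho : Odd s
      · simp only [ho, decide_true, if_true]
        rw [← _root_.zpow_natCast, Nat.cast_add, Nat.cast_pow, Nat.cast_one,
          show ((r : ℤ) ^ s + 1) = -((-(r : ℤ)) ^ s - 1) by rw [ho.neg_pow]; ring, _root_.zpow_neg, h1, inv_one]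
      · simp only [ho, decide_false, Bool.false_eq_true, if_false]
        rw [← _root_.zpow_natCast, Nat.cast_sub hrs, Nat.cast_pow, Nat.cast_one,
          ← (Nat.not_odd_iff_even.1 ho).neg_pow, h1]

/-- The order bound in the unitary case. -/
theorem unitary_bound [Finite F] (hn : 1 ≤ n) (hj : 1 ≤ j) (hr : r = p ^ j) (A : GL (Fin n) F) (σ : F →+* F)
    (hσ : ∀ a, σ a = a ^ r) (h : (((A⁻¹ : GL (Fin n) F) : Mat).map σ).charpoly = (A : Mat).charpoly) :
    (r - 1) * orderOf A ≤ r ^ (n + 1) := by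
  classical
  obtain ⟨orb, horb⟩ := unitary_data p j hr A σ hσ h
  set M := eig (A : Mat)
  choose hself hsub hy s hs1 hs2 hsx using horb
  have hr2 : 2 ≤ r := hr ▸ le_trans hp.out.two_le (Nat.le_self_pow (by omega) p)
  let sd : AlgebraicClosure F → ℕ := fun x => if hx : x ∈ M.toFinset then s x hx else 0
  obtain ⟨L, D, hL, hroot, hle, -, hD, hne, -⟩ := orbit_bound (Q := r) (c := 1) hr2 M M.toFinset orb sd
    (fun x => decide (Odd (sd x))) (fun x hx => hsub x hx) (fun x hx => hself x hx)
    (fun x hx y hxy => (hy x hx y hxy).1) (fun x hx y hxy => (hy x hx y hxy).2.1)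
    (fun x hx y hxy => (hy x hx y hxy).2.2) (fun x hx => by simp only [sd, dif_pos hx]; exact hs1 x hx)
    (fun x hx => by simp only [sd, dif_pos hx, one_mul]; exact hs2 x hx)
    (fun x hx => by simp only [sd, dif_pos hx]; exact hsx x hx)
    (fun x hx => Multiset.one_le_count_iff_mem.2 (Multiset.mem_toFinset.1 hx))
  have hsum : ∑ x ∈ M.toFinset, M.count x = n := by
    rw [Multiset.toFinset_sum_count_eq, card_eig]
  rw [hsum] at hD
  have hpos : M.toFinset.Nonempty := by
    obtain ⟨x, hx⟩ := Multiset.card_pos_iff_exists_mem.1 (show 0 < M.card by rw [card_eig]; omega)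
    exact ⟨x, Multiset.mem_toFinset.2 hx⟩
  have hD1 := hne hpos
  obtain ⟨x₀, hx₀⟩ := hpos
  have hDn : D ≤ n := by have := hD x₀ hx₀; omega
  have hmult : ∀ x ∈ M, M.count x ≤ p ^ (n - D) := fun x hx => by
    have h1 := hD x (Multiset.mem_toFinset.2 hx)
    have h2 := Nat.lt_pow_self (n := n - D) hp.out.one_lt
    omega
  have ho := orderOf_le_of_roots p A hL (fun x hx => hroot x (Multiset.mem_toFinset.2 hx)) hmult
  calc (r - 1) * orderOf A ≤ (r - 1) * (L * p ^ (n - D)) := Nat.mul_le_mul_left _ ho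
    _ = ((r - 1) * L) * p ^ (n - D) := (mul_assoc _ _ _).symm
    _ ≤ r ^ (D + 1) * r ^ (n - D) := Nat.mul_le_mul hle (Nat.pow_le_pow_left (hr ▸ Nat.le_self_pow (by omega) p) _)
    _ = r ^ (n + 1) := by rw [← pow_add]; congr 1; omega

end Unitary

end Cfsg.Agent.AutPSL.MaxOrder
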