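import Cfsg.Agent.Lib.AutPSL.OutGroup
import Mathlib

set_option autoImplicit false

/-!
Orders of linear and semilinear automorphisms of `PSL_n(q)`.
-/

namespace Cfsg.Agent.AutPSL.MaxOrder

open Matrix Polynomial

universe u
variable {n : ℕ} {F : Type u} [Field F]

theorem descend_cj_eq_of_smul {A B : GL (Fin n) F} {c : F}
    (h : (A : Matrix (Fin n) (Fin n) F) = c • (B : Matrix (Fin n) (Fin n) F)) :
    descend (cj A) = descend (cj B) := by
  rcases Nat.eq_zero_or_pos n with rfl | hn
  · exact congrArg _ (congrArg _ (Units.ext (Subsingleton.elim _ _)))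
  haveI : Nonempty (Fin n) := ⟨⟨0, hn⟩⟩
  have hc : c ≠ 0 := by
    rintro rfl
    exact A.ne_zero (by rw [h, zero_smul])
  have hz : A * B⁻¹ ∈ Subgroup.center (GL (Fin n) F) := by
    rw [Matrix.GeneralLinearGroup.center_eq_range_scalar]
    refine ⟨Units.mk0 c hc, Units.ext ?_⟩
    rw [Units.val_mul, h, smul_mul_assoc, ← Units.val_mul, mul_inv_cancel, Units.val_one]
    simp [Matrix.GeneralLinearGroup.scalar, Matrix.smul_one_eq_diagonal]
  have := cj_eq_one_of_mem_center (n := n) (F := F) hz
  rw [map_mul, map_inv, mul_inv_eq_one] at this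
  rw [this]

variable [Fintype F]

/-- If the characteristic polynomial of `A` is defined over the subfield `K`, the image of `A`
has order at most `(|K|^n - 1)/(|K| - 1)`. -/
theorem order_cj_le {K : Type*} [Field K] [Fintype K] [Algebra K F] (hn : 0 < n) (A : GL (Fin n) F)
    (hK : ∀ i, (A : Matrix (Fin n) (Fin n) F).charpoly.coeff i ∈ Set.range (algebraMap K F)) :
    (Fintype.card K - 1) * orderOf (descend (cj A)) ≤ Fintype.card K ^ n - 1 := by
  classical
  haveI : Nonempty (Fin n) := ⟨⟨0, hn⟩⟩
  set M : Matrix (Fin n) (Fin n) F := (A : Matrix (Fin n) (Fin n) F)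
  obtain ⟨P, hPmap, hPdeg, hPm⟩ := Polynomial.lifts_and_degree_eq_and_monic
    ((Polynomial.lifts_iff_coeff_lifts _).2 hK) (Matrix.charpoly_monic M)
  have hdeg : P.degree = (n : WithBot ℕ) := by
    rw [hPdeg, Matrix.charpoly_degree_eq_dim, Fintype.card_fin]
  have hPA : aeval M P = 0 := by
    rw [← Polynomial.aeval_map_algebraMap F, hPmap, Matrix.aeval_self_charpoly]
  set o := orderOf (descend (cj A))
  let R : Kˣ × Fin o → K[X] := fun x => (C (x.1 : K) * X ^ (x.2 : ℕ)) %ₘ P
  have hR : ∀ x, aeval M (R x) = algebraMap K F x.1 • (A ^ (x.2 : ℕ) : GL (Fin n) F).1 := fun x => by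
    show aeval M ((C (x.1 : K) * X ^ (x.2 : ℕ)) %ₘ P) = _
    rw [Polynomial.modByMonic_eq_sub_mul_div, map_sub, map_mul (aeval M) P, hPA, zero_mul, sub_zero, map_mul,
      aeval_C, map_pow, aeval_X, Units.val_pow_eq_pow_val, IsScalarTower.algebraMap_apply K F,
      ← Algebra.smul_def]
  have hcoef : ∀ x m, n ≤ m → (R x).coeff m = 0 := fun x m hm => by
    refine Polynomial.coeff_eq_zero_of_degree_lt (lt_of_lt_of_le (Polynomial.degree_modByMonic_lt _ hPm) ?_)
    rw [hdeg]
    exact_mod_cast hm
  have hne : ∀ x, R x ≠ 0 := fun x h0 => by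
    have := hR x
    rw [h0, map_zero, eq_comm, smul_eq_zero] at this
    rcases this with h | h
    · exact x.1.ne_zero ((map_eq_zero _).1 h)
    · exact (A ^ (x.2 : ℕ)).ne_zero h
  let Φ : Kˣ × Fin o → {v : Fin n → K // v ≠ 0} := fun x => ⟨fun i => (R x).coeff i, fun h0 => hne x (by
    ext m
    by_cases hm : m < n
    · simpa using congrFun h0 ⟨m, hm⟩
    · rw [hcoef x m (not_lt.1 hm), Polynomial.coeff_zero])⟩
  have hΦ : Function.Injective Φ := by
    intro x y h
    have hRe : R x = R y := by
      ext m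
      by_cases hm : m < n
      · exact congrFun (congrArg Subtype.val h) ⟨m, hm⟩
      · rw [hcoef x m (not_lt.1 hm), hcoef y m (not_lt.1 hm)]
    have he := hR x
    rw [hRe, hR y] at he
    have hxc : algebraMap K F (x.1 : K) ≠ 0 := fun h => x.1.ne_zero ((map_eq_zero _).1 h)
    have hpow : descend (cj A) ^ (x.2 : ℕ) = descend (cj A) ^ (y.2 : ℕ) := by
      rw [← map_pow, ← map_pow, ← map_pow, ← map_pow]
      refine descend_cj_eq_of_smul (c := (algebraMap K F x.1)⁻¹ * algebraMap K F y.1) ?_
      rw [mul_smul, he, smul_smul, inv_mul_cancel₀ hxc, one_smul]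
    have h2 : x.2 = y.2 := Fin.ext (pow_injOn_Iio_orderOf x.2.2 y.2.2 hpow)
    refine Prod.ext (Units.ext ((algebraMap K F).injective ?_)) h2
    rw [← h2] at he
    exact (smul_left_injective F (A ^ (x.2 : ℕ)).ne_zero he).symm
  have hcard := Nat.card_le_card_of_injective Φ hΦ
  rw [Nat.card_prod, Nat.card_units, Nat.card_fin, Nat.card_eq_fintype_card (α := K), Nat.card_eq_fintype_card,
    Fintype.card_subtype_compl, Fintype.card_subtype_eq, Fintype.card_fun, Fintype.card_fin] at hcard
  exact hcard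

/-- The bound for linear automorphisms. -/
theorem linear_le (hn : 0 < n) (A : GL (Fin n) F) :
    (Fintype.card F - 1) * orderOf (descend (cj A)) ≤ Fintype.card F ^ n - 1 :=
  order_cj_le (K := F) hn A fun i => ⟨_, rfl⟩

omit [Fintype F] in
theorem map_comp_mul (σ τ : RingAut F) (A : GL (Fin n) F) :
    Matrix.GeneralLinearGroup.map ((σ * τ : RingAut F) : F →+* F) A =
      Matrix.GeneralLinearGroup.map (σ : F →+* F) (Matrix.GeneralLinearGroup.map (τ : F →+* F) A) := by
  apply Units.ext; ext i j; rfl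

omit [Fintype F] in
theorem semilinear_pow (A : GL (Fin n) F) (σ : RingAut F) (m : ℕ) :
    ∃ N : GL (Fin n) F, (cj A * fld σ : MulAut _) ^ m = cj N * fld (σ ^ m : RingAut F) ∧
      A * Matrix.GeneralLinearGroup.map (σ : F →+* F) N =
        N * Matrix.GeneralLinearGroup.map ((σ ^ m : RingAut F) : F →+* F) A := by
  induction m with
  | zero =>
    refine ⟨1, ?_, ?_⟩
    · rw [pow_zero, pow_zero, map_one, one_mul]; exact fld_one.symm
    · rw [map_one, mul_one, one_mul, pow_zero]; apply Units.ext; ext i j; rfl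
  | succ m ih =>
    obtain ⟨N, h1, h2⟩ := ih
    refine ⟨A * Matrix.GeneralLinearGroup.map (σ : F →+* F) N, ?_, ?_⟩
    · rw [pow_succ', h1, map_mul, mul_assoc, ← mul_assoc (fld σ) (cj N), fld_mul_cj, pow_succ', mul_assoc,
        mul_assoc]
      congr 2
      first
        | exact fld_mul σ (σ ^ m)
        | skip
    · have := congrArg (Matrix.GeneralLinearGroup.map (σ : F →+* F)) h2
      rw [map_mul, map_mul, ← map_comp_mul σ (σ ^ m), ← pow_succ'] at this
      rw [map_mul, mul_assoc]
      exact congrArg (A * ·) this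

/-- Powers of a semilinear automorphism. -/
theorem semilinear_le (hn : 0 < n) (A : GL (Fin n) F) (σ : RingAut F) :
    ∃ k : ℕ, 2 ≤ k ∧ Fintype.card F = k ^ orderOf σ ∧
      (k - 1) * orderOf (descend (cj A * fld σ)) ≤ orderOf σ * (k ^ n - 1) := by
  classical
  haveI : Finite (RingAut F) := Finite.of_injective (fun f => (f : F → F)) DFunLike.coe_injective
  let G := Subgroup.zpowers σ
  haveI : Fintype G := Fintype.ofFinite G
  haveI : FaithfulSMul G F := ⟨fun {a b} h => Subtype.ext (RingEquiv.ext h)⟩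
  set K := FixedPoints.subfield G F
  haveI : Fintype K := Fintype.ofFinite K
  have hG : Fintype.card G = orderOf σ := by rw [← Nat.card_eq_fintype_card]; exact Nat.card_zpowers σ
  have hF : Fintype.card F = Fintype.card K ^ orderOf σ := by
    rw [Module.card_eq_pow_finrank (K := K) (V := F), FixedPoints.finrank_eq_card, hG]
  obtain ⟨N, hN, hcomm⟩ := semilinear_pow A σ (orderOf σ)
  rw [pow_orderOf_eq_one] at hN hcomm
  have hone : (fld (1 : RingAut F) : MulAut (Matrix.SpecialLinearGroup (Fin n) F)) = 1 := fld_one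
  have h1 : Matrix.GeneralLinearGroup.map ((1 : RingAut F) : F →+* F) A = A := by
    apply Units.ext; ext i j; rfl
  rw [h1] at hcomm
  rw [hone, mul_one] at hN
  have hchar : (N : Matrix (Fin n) (Fin n) F).charpoly.map (σ : F →+* F) =
      (N : Matrix (Fin n) (Fin n) F).charpoly := by
    rw [← Matrix.charpoly_map]
    have e : Matrix.GeneralLinearGroup.map (σ : F →+* F) N = A⁻¹ * N * A := by
      rw [mul_assoc, ← hcomm, inv_mul_cancel_left]
    have e' := congrArg Units.val e
    rw [Units.val_mul, Units.val_mul] at e'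
    rw [← Matrix.charpoly_units_conj' A (N : Matrix (Fin n) (Fin n) F)]
    exact congrArg _ (e'.trans (by rw [Matrix.coe_units_inv]))
  have hK : ∀ i, (N : Matrix (Fin n) (Fin n) F).charpoly.coeff i ∈ Set.range (algebraMap K F) := by
    intro i
    set c := (N : Matrix (Fin n) (Fin n) F).charpoly.coeff i with hc
    have hfix : σ c = c := by
      have := congrArg (fun P => Polynomial.coeff P i) hchar
      simpa [hc] using this
    refine ⟨⟨c, fun g => ?_⟩, rfl⟩
    show (g : RingAut F) c = c
    have hs : σ ∈ MulAction.stabilizer (RingAut F) c := hfix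
    exact (Subgroup.zpowers_le.2 hs) g.2
  refine ⟨Fintype.card K, Fintype.one_lt_card, hF, ?_⟩
  have hle := order_cj_le hn N hK
  have hdvd : orderOf (descend (cj A * fld σ)) ∣ orderOf σ * orderOf (descend (cj N)) := by
    refine orderOf_dvd_of_pow_eq_one ?_
    rw [pow_mul, ← map_pow descend, hN, pow_orderOf_eq_one]
  have hpos : 0 < orderOf σ * orderOf (descend (cj N)) :=
    Nat.mul_pos (orderOf_pos σ) (orderOf_pos _)
  calc (Fintype.card K - 1) * orderOf (descend (cj A * fld σ))
      ≤ (Fintype.card K - 1) * (orderOf σ * orderOf (descend (cj N))) :=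
        Nat.mul_le_mul_left _ (Nat.le_of_dvd hpos hdvd)
    _ = orderOf σ * ((Fintype.card K - 1) * orderOf (descend (cj N))) := by ring
    _ ≤ _ := Nat.mul_le_mul_left _ hle

end Cfsg.Agent.AutPSL.MaxOrder
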